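import Groth.Agent.AlgSpBasic.DecentNbhd
import Groth.Agent.AlgSpBasic.DecentCriteria
import Groth.Agent.AlgSpBasic.ElemDistPushout
import Groth.Agent.AlgSp2.Approx.UnionScheme
import Groth.Agent.AlgSp2.InfSmallExt
import Groth.Agent.AlgSp3.RedInduced
import Groth.Agent.AlgSp2.CutOutFactor
import Groth.Agent.Calg4.SmoothDescPoint
import Groth.Prelude.Def_AlgSpDec

/-!
# Flat local neighbourhoods of closed points
-/

set_option autoImplicit false
set_option backward.isDefEq.respectTransparency.types false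
set_option linter.unusedSectionVars false
universe u

open CategoryTheory CategoryTheory.Limits AlgebraicGeometry TopologicalSpace Opposite AlgSp

namespace Groth.AlgSp2.FlatLocalNbhd

open Groth.AlgSpBasic Groth.AlgSp2 Groth.AlgSp3

noncomputable section

variable {S : Scheme.{u}} {X : Sp S}

/-- Maps with the same image over a point with an elementary neighbourhood agree. -/
theorem eq_of_elementary (hX : IsAlgSpace X) {U : Over S} {a : (yon S).obj U ⟶ X}
    (ha : RepWith @Etale a) {u : U.left} (hm : Mono (FieldPt.ofPt a u).toHom)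
    {z : Points X} (hfib : Points.ofPt a ⁻¹' {z} = {u}) {T : Over S} (v v' : T ⟶ U)
    (e : (yon S).map v ≫ a = (yon S).map v' ≫ a)
    (ht : ∀ t, Points.ofPt ((yon S).map v ≫ a) t = z) : v = v' := by
  have hd : RepWith @IsOpenImmersion (pullback.diagonal a) :=
    repWith_diagonal_of_unramified (IsAlgSpace.yon_obj U) hX
      (locP_mono etale_le_unramified (locP_of_repWith ha))
  obtain ⟨O, o, fo, sq⟩ := hd.rep (pullback.lift _ _ e)
  have : IsOpenImmersion o.left := hd.property _ fo o sq
  have ho : o ≫ v = o ≫ v' := (yon S).map_injective (by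
    have h₁ := sq.w =≫ pullback.fst a a
    have h₂ := sq.w =≫ pullback.snd a a
    simp only [Category.assoc, pullback.diagonal_fst, pullback.diagonal_snd, Category.comp_id,
      pullback.lift_fst, pullback.lift_snd] at h₁ h₂
    rw [Functor.map_comp, Functor.map_comp, ← h₁, ← h₂])
  have hlift : ∀ (w : T ⟶ U) (t : T.left), Points.ofPt ((yon S).map w ≫ a) t = z →
      ∃ m : (FieldPt.ofPt ((yon S).map v ≫ a) t).pt ⟶ (FieldPt.ofPt a u).pt,
        m ≫ (Over.homMk (U.left.fromSpecResidueField u) rfl : (FieldPt.ofPt a u).pt ⟶ U) =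
          (Over.homMk (T.left.fromSpecResidueField t) rfl :
            (FieldPt.ofPt ((yon S).map v ≫ a) t).pt ⟶ T) ≫ w := by
    intro w t hw
    rw [ofPt_comp_yon] at hw
    obtain rfl : w.left t = u := hfib.le hw
    have key : Spec.map (w.left.residueFieldMap t) ≫ U.left.fromSpecResidueField (w.left t) =
        T.left.fromSpecResidueField t ≫ w.left :=
      Scheme.Hom.SpecMap_residueFieldMap_fromSpecResidueField w.left t
    exact ⟨Over.homMk (Spec.map (w.left.residueFieldMap t)) (by
      show Spec.map (w.left.residueFieldMap t) ≫ U.left.fromSpecResidueField (w.left t) ≫ U.hom =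
        T.left.fromSpecResidueField t ≫ T.hom
      rw [← Category.assoc, key, Category.assoc, Over.w w]), Over.OverMorphism.ext key⟩
  have : Surjective o.left := ⟨fun t => by
    let κ : (FieldPt.ofPt ((yon S).map v ≫ a) t).pt ⟶ T :=
      Over.homMk (T.left.fromSpecResidueField t) rfl
    let ρ : (FieldPt.ofPt a u).pt ⟶ U := Over.homMk (U.left.fromSpecResidueField u) rfl
    obtain ⟨m, hm₁⟩ := hlift v t (ht t)
    obtain ⟨m', hm₂⟩ := hlift v' t (e ▸ ht t)
    have hmm : (yon S).map m = (yon S).map m' := by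
      rw [← cancel_mono (FieldPt.ofPt a u).toHom]
      have hρ : (FieldPt.ofPt a u).toHom = (yon S).map ρ ≫ a := FieldPt.toHom_ofPt a u
      rw [hρ, ← Category.assoc, ← Category.assoc, ← Functor.map_comp, ← Functor.map_comp, hm₁, hm₂,
        Functor.map_comp, Functor.map_comp, Category.assoc, Category.assoc, e]
    have w : ((yon S).map (κ ≫ v)) ≫ pullback.diagonal a = (yon S).map κ ≫ pullback.lift _ _ e := by
      refine pullback.hom_ext ?_ ?_
      · rw [Category.assoc, pullback.diagonal_fst, Category.comp_id, Category.assoc,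
          pullback.lift_fst, Functor.map_comp]
      · rw [Category.assoc, pullback.diagonal_snd, Category.comp_id, Category.assoc,
          pullback.lift_snd, ← Functor.map_comp, show κ ≫ v = κ ≫ v' by
            rw [← hm₁, ← hm₂, (yon S).map_injective hmm]]
    obtain ⟨l, hl⟩ := (yon S).map_surjective (sq.lift _ _ w)
    have hlo : l ≫ o = κ := (yon S).map_injective (by rw [Functor.map_comp, hl, sq.lift_snd])
    refine ⟨l.left (IsLocalRing.closedPoint _), ?_⟩
    rw [← Scheme.Hom.comp_apply, ← Over.comp_left, hlo]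
    exact Scheme.fromSpecResidueField_apply t _⟩
  haveI : IsIso o.left := (isIso_iff_isOpenImmersion_and_surjective o.left).2 ⟨‹_›, ‹_›⟩
  haveI : IsIso ((Over.forget S).map o) := ‹IsIso o.left›
  haveI : IsIso o := isIso_of_reflects_iso o (Over.forget S)
  exact (cancel_epi o).1 ho

variable {U : Over S} {a : (yon S).obj U ⟶ X} {u : U.left} {z : Points X}

/-- A map supported at the point factors uniquely through the neighbourhood. -/
theorem exists_lift_of_elementary (hX : IsAlgSpace X) (ha : RepWith @Etale a)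
    (hm : Mono (FieldPt.ofPt a u).toHom) (hfib : Points.ofPt a ⁻¹' {z} = {u}) {T : Over S}
    (y : (yon S).obj T ⟶ X) (hy : ∀ t, Points.ofPt y t = z) :
    ∃ v : T ⟶ U, (yon S).map v ≫ a = y ∧ ∀ t, v.left t = u := by
  obtain ⟨W, c, d, sq⟩ := exists_pullback_yon (representable_of_diag hX.diag y) a
  have hc : Etale c.left := repWith_fst_of_isPullback sq.flip ha
  have hzu : Points.ofPt a u = z := hfib.ge rfl
  have : Surjective c.left := ⟨fun t => by
    obtain ⟨w, hw, -⟩ := (ofPt_eq_ofPt_iff sq t u).1 ((hy t).trans hzu.symm)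
    exact ⟨w, hw⟩⟩
  have : Mono c := ⟨fun {Z} w w' hww => by
    refine (yon S).map_injective (sq.hom_ext (by rw [← Functor.map_comp, hww, Functor.map_comp])
      (by
        rw [← Functor.map_comp, ← Functor.map_comp]
        refine congrArg _ (eq_of_elementary hX ha hm hfib _ _ ?_ fun t => ?_)
        · rw [Functor.map_comp, Functor.map_comp, Category.assoc, Category.assoc, ← sq.w,
            ← Functor.map_comp_assoc, hww, Functor.map_comp_assoc]
        · rw [Functor.map_comp, Category.assoc, ← sq.w, ← Functor.map_comp_assoc, ofPt_comp_yon]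
          exact hy _))⟩
  haveI : Mono c.left := inferInstanceAs (Mono ((Over.forget S).map c))
  haveI := IsOpenImmersion.of_flat_of_mono c.left
  haveI : IsIso c.left := (isIso_iff_isOpenImmersion_and_surjective c.left).2 ⟨‹_›, ‹_›⟩
  haveI : IsIso ((Over.forget S).map c) := ‹IsIso c.left›
  haveI : IsIso c := isIso_of_reflects_iso c (Over.forget S)
  refine ⟨inv c ≫ d, ?_, fun t => ?_⟩
  · rw [Functor.map_comp, Category.assoc, ← sq.w, ← Functor.map_comp_assoc, IsIso.inv_hom_id,
      (yon S).map_id, Category.id_comp]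
  · refine hfib.le ?_
    show Points.ofPt a ((inv c ≫ d).left t) = z
    rw [← ofPt_comp_yon, Functor.map_comp, Category.assoc, ← sq.w, ← Functor.map_comp_assoc,
      IsIso.inv_hom_id, (yon S).map_id, Category.id_comp]
    exact hy t

/-- The point is a closed subspace. -/
theorem repWith_closedImmersion_point (hX : IsAlgSpace X) (ha : RepWith @Etale a)
    (hm : Mono (FieldPt.ofPt a u).toHom) (hfib : Points.ofPt a ⁻¹' {z} = {u})
    (hz : IsClosed ({z} : Set (Points X))) :
    RepWith @IsClosedImmersion (FieldPt.ofPt a u).toHom := by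
  have hzu : Points.ofPt a u = z := hfib.ge rfl
  obtain ⟨Z₁, i, hZ₁, hi⟩ := exists_isRedInduced hX hz
  obtain ⟨W, c, fst, sq⟩ := hi.1.rep a
  have hcl : IsClosedImmersion c.left := hi.1.property a fst c sq
  have hfe : RepWith @Etale fst := repWith_of_isPullback sq.flip ha
  have hpt : ∀ {T : Over S} (x : (yon S).obj T ⟶ Z₁) (t : T.left), Points.ofPt (x ≫ i) t = z :=
    fun x t => hi.2.1.le ⟨Points.ofPt x t, Points.map_ofPt _ _ _⟩
  have hWc : ∀ w, c.left w = u := fun w => hfib.le (by
    show Points.ofPt a (c.left w) = z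
    rw [← ofPt_comp_yon, ← sq.w]
    exact hpt fst w)
  have : Mono i := mono_of_repWith (fun _ _ k (_ : IsClosedImmersion k) => inferInstance) hi.1
  obtain ⟨l, hl⟩ := exists_fac_residue_of_range hi.1 a u (by rw [hi.2.1]; exact hzu)
  let ρ : (FieldPt.ofPt a u).pt ⟶ U := Over.homMk (U.left.fromSpecResidueField u) rfl
  obtain ⟨σ, hσ⟩ := (yon S).map_surjective (sq.lift l ((yon S).map ρ) hl)
  have hσc : σ ≫ c = ρ := (yon S).map_injective (by rw [Functor.map_comp, hσ, sq.lift_snd])
  have : IsReduced W.left := Groth.AlgSp2.Approx.isReduced_of_etale_chart hZ₁ hi.2.2 hfe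
  haveI hσi : IsPreimmersion σ.left := by
    have : IsPreimmersion (σ.left ≫ c.left) := by
      rw [← Over.comp_left, hσc]
      exact inferInstanceAs (IsPreimmersion (U.left.fromSpecResidueField u))
    exact IsPreimmersion.of_comp σ.left c.left
  have hinj : ∀ w w' : W.left, w = w' := fun w w' =>
    c.left.isClosedEmbedding.injective ((hWc w).trans (hWc w').symm)
  haveI : Surjective σ.left := ⟨fun w => ⟨IsLocalRing.closedPoint _, hinj _ _⟩⟩
  haveI : IsClosedImmersion σ.left := IsClosedImmersion.of_isPreimmersion σ.left (by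
    rw [Set.range_eq_univ.2 σ.left.surjective]; exact isClosed_univ)
  haveI : IsIso σ.left := isIso_of_isClosedImmersion_of_surjective σ.left
  haveI : IsIso ((Over.forget S).map σ) := ‹IsIso σ.left›
  haveI : IsIso σ := isIso_of_reflects_iso σ (Over.forget S)
  -- the projection is an isomorphism
  have hfs : RepWith @Surjective fst := repWith_surjective_of_ofPt hfe.rep fun y => by
    have hy : Points.map i y = Points.ofPt a u := (hi.2.1.le ⟨y, rfl⟩ : _ = z).trans hzu.symm
    obtain ⟨w, hw, -⟩ := (map_eq_ofPt_iff sq y u).1 hy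
    exact ⟨w, hw⟩
  haveI : Epi fst :=
    haveI := isLocallySurjective_of_etale fst hfe hfs
    inferInstance
  haveI : Mono fst := ⟨fun {Z} g₁ g₂ hg => Groth.AlgSp2.hom_ext_yon fun T x => by
    obtain ⟨w₁, hw₁⟩ := (yon S).map_surjective (x ≫ g₁)
    obtain ⟨w₂, hw₂⟩ := (yon S).map_surjective (x ≫ g₂)
    have he : (yon S).map w₁ ≫ fst = (yon S).map w₂ ≫ fst := by
      rw [hw₁, hw₂, Category.assoc, Category.assoc, hg]
    rw [← hw₁, ← hw₂]
    refine sq.hom_ext he ?_
    rw [← Functor.map_comp, ← Functor.map_comp]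
    refine congrArg _ (eq_of_elementary hX ha hm hfib _ _ ?_ fun t => ?_)
    · rw [Functor.map_comp_assoc, Functor.map_comp_assoc, ← sq.w, ← Category.assoc, he,
        Category.assoc]
    · rw [Functor.map_comp_assoc, ← sq.w, ← Category.assoc]
      exact hpt _ t⟩
  haveI := isIso_of_mono_of_epi fst
  have e : (FieldPt.ofPt a u).toHom = ((yon S).map σ ≫ fst) ≫ i := by
    rw [hσ, sq.lift_fst, hl, FieldPt.toHom_ofPt]
  rw [e]
  exact MorphismProperty.RespectsIso.precomp _ _ _ hi.1

/-- A map to a scheme with all points over `u` factors through the local scheme at `u`. -/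
theorem exists_lift_fromSpecStalk {U T : Scheme.{u}} [IsAffine U] (u : U) (v : T ⟶ U)
    (h : ∀ t, v t = u) : ∃ b : T ⟶ Spec (U.presheaf.stalk u), b ≫ U.fromSpecStalk u = v := by
  let ρ := U.fromSpecStalk u
  haveI : Flat ρ := by
    rw [show ρ = U.fromSpecStalk u from rfl]
    exact Groth.Calg4.flat_fromSpecStalk U u
  haveI : QuasiCompact ρ := inferInstance
  have hsurj : Surjective (pullback.fst v ρ) := ⟨fun t => by
    obtain ⟨p, hp, -⟩ := Scheme.exists_preimage_of_isPullback (IsPullback.of_hasPullback v ρ) t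
      (IsLocalRing.closedPoint _) (by rw [h t]; exact (Scheme.fromSpecStalk_closedPoint).symm)
    exact ⟨p, hp⟩⟩
  haveI := hsurj
  haveI : IsIso (pullback.fst v ρ) := Flat.isIso_of_surjective_of_mono _
  exact ⟨inv (pullback.fst v ρ) ≫ pullback.snd v ρ, by
    rw [Category.assoc, ← pullback.condition, IsIso.inv_hom_id_assoc]⟩

/-- Powers of the ideal of a closed point cut out subspaces supported at it. -/
theorem eq_of_cutOut_pow (hX : IsAlgSpace X) {K : Sp S} {q : K ⟶ X}
    (hq : Set.range (Points.map q) ⊆ {z}) (hz : IsClosed ({z} : Set (Points X))) {I : IdealEt X}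
    (hI : IsCutOutBy I q) {n : ℕ} (hn : 1 ≤ n) {Zn : Sp S} {iZ : Zn ⟶ X}
    (hZ : IsCutOutBy (I ^ n) iZ) (w : Points Zn) : Points.map iZ w = z := by
  by_contra hne
  obtain ⟨V, p, hp, hps⟩ := hX.atlas
  obtain ⟨x, hx⟩ := surjective_ofPt_of_repWith hps (Points.map iZ w)
  obtain ⟨Q, hQ, hxQ, hle⟩ := exists_isAffineOpen_mem_and_subset (X := V.left) (x := x)
    (U := (⟨Points.ofPt p ⁻¹' {z}ᶜ, hz.isOpen_compl.preimage (Points.continuous_ofPt p)⟩ :
      V.left.Opens)) (by show Points.ofPt p x ≠ z; rw [hx]; exact hne)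
  let k : Over.mk (Q.ι ≫ V.hom) ⟶ V := Over.homMk Q.ι rfl
  let E : EtOver X := EtOver.mk ((yon S).map k ≫ p)
    (repWith_comp ((repWith_yon_map_iff _ k).2 (inferInstanceAs (Etale Q.ι))) hp)
  have hE : IsAffine E.obj.left.left := hQ
  obtain ⟨hqi, hqI⟩ := hI
  obtain ⟨hZi, hZI⟩ := hZ
  haveI : IsEmpty ↥(EtOver.bcObj hqi.1 E).obj.left.left := ⟨fun y => by
    have hy := hq ⟨Points.ofPt (EtOver.bcObj hqi.1 E).obj.hom y, rfl⟩
    rw [Points.map_ofPt, (EtOver.isPullback_bcObj hqi.1 E).w, ofPt_comp_yon] at hy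
    refine hle ((EtOver.bcπ hqi.1 E).left y).2 ?_
    exact (ofPt_comp_yon k p _).symm.trans hy⟩
  have h₁ : I.ideal E hE = ⊤ := by
    rw [← hqI, Ideal.eq_top_iff_one, mem_idealOfRep_iff]
    exact Subsingleton.elim _ _
  have h₂ : (1 : Γ(E.obj.left.left, ⊤)) ∈ (idealOfRep hZi.1).ideal E hE := by
    rw [hZI, IdealEt.pow_ideal, h₁, ← Ideal.one_eq_top, one_pow, Ideal.one_eq_top]
    exact Submodule.mem_top
  rw [mem_idealOfRep_iff, map_one] at h₂
  let o : E.obj.left.left := (⟨x, hxQ⟩ : Q)
  have ho : Points.map iZ w = Points.ofPt E.obj.hom o := hx.symm.trans (ofPt_comp_yon k p o).symm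
  obtain ⟨y, -, -⟩ := (map_eq_ofPt_iff (EtOver.isPullback_bcObj hZi.1 E) w o).1 ho
  have hb := (EtOver.bcObj hZi.1 E).obj.left.left.basicOpen_of_isUnit
    (f := (1 : Γ((EtOver.bcObj hZi.1 E).obj.left.left, ⊤))) isUnit_one
  rw [h₂, Scheme.basicOpen_zero] at hb
  exact (hb.ge (show y ∈ (⊤ : Opens _) from trivial) : y ∈ (⊥ : Opens _))

/-- Flat local neighbourhoods. -/
theorem exists_flat_local_nbhd (X : AlgSp.Space S) (hqs : IsQuasiSeparatedSp X.obj)
    (hN : IsLocNoethSp X.obj) (z : Points X.obj) (hz : IsClosed ({z} : Set (Points X.obj))) :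
    ∃ (R : CommRingCat.{u}) (hR : IsLocalRing ↥R) (str : Spec R ⟶ S)
      (φ : (AlgSp.yon S).obj (Over.mk str) ⟶ X.obj) (p : AlgSp.FieldPt X.obj) (t : p.pt ⟶ Over.mk str),
      IsNoetherianRing ↥R ∧ AlgSp.RepWith @Flat φ ∧
      AlgSp.Points.ofPt φ (@IsLocalRing.closedPoint ↥R _ hR) = z ∧
      AlgSp.Points.mk p = z ∧ AlgSp.RepWith @IsClosedImmersion p.toHom ∧
      IsPullback ((AlgSp.yon S).map t) (𝟙 ((AlgSp.yon S).obj p.pt)) φ p.toHom ∧
      (∀ (I : AlgSp.IdealEt X.obj), AlgSp.IsCutOutBy I p.toHom → ∀ n : ℕ, 1 ≤ n →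
        ∀ (Zn : AlgSp.Sp S) (iZ : Zn ⟶ X.obj), AlgSp.IsCutOutBy (I ^ n) iZ →
          ∀ (P : AlgSp.Sp S) (fst : P ⟶ (AlgSp.yon S).obj (Over.mk str)) (snd : P ⟶ Zn),
            IsPullback fst snd φ iZ → IsIso snd) ∧
      AlgSp.HasAt (fun U u => ringKrullDim ↥(U.presheaf.stalk u) = ringKrullDim ↥R) X.obj z := by
  obtain ⟨U, a, u, hU, ⟨ha, hzu, hm⟩, hfib⟩ :=
    exists_affine_elementary X (isDecent_of_qs X.property hqs) z
  have := isLocallyNoetherian_of_etale X.property hN ha
  let ρ : Over.mk (U.left.fromSpecStalk u ≫ U.hom) ⟶ U := Over.homMk (U.left.fromSpecStalk u) rfl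
  haveI : Mono ρ.left := inferInstanceAs (Mono (U.left.fromSpecStalk u))
  haveI : Mono ρ := (Over.forget S).mono_of_mono_map (f := ρ) ‹Mono ρ.left›
  let φ := (yon S).map ρ ≫ a
  let p := FieldPt.ofPt a u
  let κ : p.pt ⟶ U := Over.homMk (U.left.fromSpecResidueField u) rfl
  let t : p.pt ⟶ Over.mk (U.left.fromSpecStalk u ≫ U.hom) :=
    Over.homMk (Spec.map (U.left.residue u)) (by
      show Spec.map (U.left.residue u) ≫ U.left.fromSpecStalk u ≫ U.hom = _
      rw [← Category.assoc]
      rfl)
  have htρ : t ≫ ρ = κ := Over.OverMorphism.ext rfl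
  have hpt : p.toHom = (yon S).map κ ≫ a := FieldPt.toHom_ofPt a u
  have hpc := repWith_closedImmersion_point X.property ha hm hfib hz
  have : Mono p.toHom := hm
  refine ⟨U.left.presheaf.stalk u, inferInstance, U.left.fromSpecStalk u ≫ U.hom, φ, p, t,
    inferInstance, ?_, ?_, hzu, hpc, ?_, ?_, ⟨U, a, u, ha, hzu, rfl⟩⟩
  · exact repWith_comp ((repWith_yon_map_iff _ ρ).2 (Groth.Calg4.flat_fromSpecStalk U.left u))
      (repWith_mono (fun _ _ k (_ : Etale k) => (inferInstance : Flat k)) ha)
  · show Points.ofPt ((yon S).map ρ ≫ a) _ = z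
    rw [ofPt_comp_yon, show ρ.left (IsLocalRing.closedPoint _) = u from
      Scheme.fromSpecStalk_closedPoint]
    exact hzu
  · refine isPullback_of_lifts ?_ (fun T b c e => ⟨c, ?_, Category.comp_id c⟩)
      fun T c c' _ h => by simpa using h
    · rw [Category.id_comp, hpt, ← Category.assoc, ← Functor.map_comp, htρ]
    · obtain ⟨b, rfl⟩ := (yon S).map_surjective b
      obtain ⟨c, rfl⟩ := (yon S).map_surjective c
      rw [hpt, ← Functor.map_comp_assoc, ← Functor.map_comp_assoc] at e
      rw [← Functor.map_comp]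
      refine congrArg _ ((cancel_mono ρ).1 ?_)
      rw [Category.assoc, htρ]
      refine (eq_of_elementary X.property ha hm hfib _ _ e fun o => ?_).symm
      rw [e, ofPt_comp_yon, Over.comp_left, Scheme.Hom.comp_apply,
        show κ.left (c.left o) = u from Scheme.fromSpecResidueField_apply u _]
      exact hzu
  · intro I hI n hn Zn iZ hZ P fst snd sq
    have hq : Set.range (Points.map p.toHom) ⊆ {z} := by
      rintro _ ⟨y, rfl⟩
      obtain ⟨o, rfl⟩ := (Points.schemeEquiv p.pt).surjective y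
      exact (ofPt_eq_map p.toHom o).symm.trans ((Points.ofPt_toHom p o).trans hzu)
    have hZpt : ∀ {T : Over S} (x : (yon S).obj T ⟶ Zn) (o : T.left),
        Points.ofPt (x ≫ iZ) o = z := fun x o => by
      rw [← Points.map_ofPt]
      exact eq_of_cutOut_pow X.property hq hz hI hn hZ _
    have hex : ∀ (T : Over S) (x : (yon S).obj T ⟶ Zn), ∃ y : (yon S).obj T ⟶ P, y ≫ snd = x := by
      intro T x
      obtain ⟨v, hv, hvu⟩ := exists_lift_of_elementary X.property ha hm hfib (x ≫ iZ) (hZpt x)
      obtain ⟨b, hb⟩ := exists_lift_fromSpecStalk u v.left hvu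
      let b' : T ⟶ Over.mk (U.left.fromSpecStalk u ≫ U.hom) := Over.homMk b (by
        show b ≫ U.left.fromSpecStalk u ≫ U.hom = T.hom
        rw [← Category.assoc, hb, Over.w v])
      refine ⟨sq.lift ((yon S).map b') x ?_, sq.lift_snd _ _ _⟩
      rw [← Functor.map_comp_assoc, show b' ≫ ρ = v from Over.OverMorphism.ext hb, hv]
    choose y hy using hex
    have huniq : ∀ (T : Over S) (y y' : (yon S).obj T ⟶ P), y ≫ snd = y' ≫ snd → y = y' := by
      intro T y y' e
      obtain ⟨b, hb⟩ := (yon S).map_surjective (y ≫ fst)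
      obtain ⟨b', hb'⟩ := (yon S).map_surjective (y' ≫ fst)
      refine sq.hom_ext ?_ e
      rw [← hb, ← hb']
      refine congrArg _ ((cancel_mono ρ).1 (eq_of_elementary X.property ha hm hfib _ _ ?_ fun o => ?_))
      · rw [Functor.map_comp, Functor.map_comp, Category.assoc, Category.assoc]
        show (yon S).map b ≫ φ = (yon S).map b' ≫ φ
        rw [hb, hb', Category.assoc, Category.assoc, sq.w, ← Category.assoc, e, Category.assoc]
      · rw [Functor.map_comp, Category.assoc]
        show Points.ofPt ((yon S).map b ≫ φ) o = z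
        rw [hb, Category.assoc, sq.w, ← Category.assoc]
        exact hZpt _ o
    obtain ⟨g, hg⟩ := Groth.AlgSp2.exists_hom_of_natural y fun T T' k x => huniq _ _ _ (by
      rw [hy, Category.assoc, hy])
    exact ⟨g, Groth.AlgSp2.hom_ext_yon fun T x => huniq _ _ _ (by
      rw [← Category.assoc x snd g, hg, hy, Category.comp_id]),
      Groth.AlgSp2.hom_ext_yon fun T x => by
        rw [← Category.assoc, hg, hy, Category.comp_id]⟩

end

end Groth.AlgSp2.FlatLocalNbhd
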